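import Mathlib

/-!
# The Rees module argument over a Noetherian ring (helper36)

For a family of subsets `G e ⊆ (k[x]_{≤ e})^ι`, finitely many members generate all of them
with degree control on the coefficients.
-/

set_option autoImplicit false

namespace Groth.Agent.Lib.Helper36.Nagata

open Function

universe u v w

variable (k : Type u) [CommRing k] (σ : Type v)

/-- the Rees ring as a polynomial ring -/
abbrev ReesQ := MvPolynomial (Option σ) k

/-- the map from the Rees ring to `k[x][T]` -/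
noncomputable def reesΦ : ReesQ k σ →ₐ[k] Polynomial (MvPolynomial σ k) :=
  MvPolynomial.aeval (fun o : Option σ =>
    Option.elim o Polynomial.X (fun i => Polynomial.C (MvPolynomial.X i) * Polynomial.X))

variable {k σ}

@[simp] theorem reesΦ_X_none : reesΦ k σ (MvPolynomial.X none) = Polynomial.X := by
  simp [reesΦ]

@[simp] theorem reesΦ_X_some (i : σ) :
    reesΦ k σ (MvPolynomial.X (some i)) = Polynomial.C (MvPolynomial.X i) * Polynomial.X := by
  simp [reesΦ]

theorem reesΦ_C (r : k) : reesΦ k σ (MvPolynomial.C r) = Polynomial.C (MvPolynomial.C r) := by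
  rw [reesΦ, MvPolynomial.aeval_C]
  rfl

theorem totalDegree_coeff_reesΦ (s : ReesQ k σ) (a : ℕ) :
    ((reesΦ k σ s).coeff a).totalDegree ≤ a := by
  induction s using MvPolynomial.induction_on generalizing a with
  | C r =>
    rw [reesΦ_C, Polynomial.coeff_C]
    split_ifs
    · rw [MvPolynomial.totalDegree_C]; exact Nat.zero_le _
    · rw [MvPolynomial.totalDegree_zero]; exact Nat.zero_le _
  | add p q hp hq =>
    rw [map_add, Polynomial.coeff_add]
    exact (MvPolynomial.totalDegree_add _ _).trans (max_le (hp a) (hq a))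
  | mul_X p o hp =>
    rw [map_mul]
    cases o with
    | none =>
      rw [reesΦ_X_none]
      cases a with
      | zero => rw [Polynomial.coeff_mul_X_zero, MvPolynomial.totalDegree_zero]
      | succ a => rw [Polynomial.coeff_mul_X]; exact (hp a).trans (Nat.le_succ a)
    | some i =>
      rw [reesΦ_X_some, ← mul_assoc]
      cases a with
      | zero => rw [Polynomial.coeff_mul_X_zero, MvPolynomial.totalDegree_zero]
      | succ a =>
        rw [Polynomial.coeff_mul_X, Polynomial.coeff_mul_C]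
        refine (MvPolynomial.totalDegree_mul _ _).trans ?_
        refine add_le_add (hp a) ?_
        refine (MvPolynomial.totalDegree_monomial_le (Finsupp.single i 1) (1 : k)).trans ?_
        simp

theorem exists_reesΦ_monomial (α : σ →₀ ℕ) (c : k) (e : ℕ) (h : (α.sum fun _ n => n) ≤ e) :
    ∃ u : ReesQ k σ, reesΦ k σ u =
      Polynomial.C (MvPolynomial.monomial α c) * Polynomial.X ^ e := by
  refine ⟨MvPolynomial.C c * (α.prod fun i n => MvPolynomial.X (some i) ^ n) *
    MvPolynomial.X none ^ (e - α.sum fun _ n => n), ?_⟩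
  rw [map_mul, map_mul, map_pow, reesΦ_X_none, reesΦ_C, map_finsuppProd]
  have h1 : (α.prod fun i n => reesΦ k σ (MvPolynomial.X (some i) ^ n)) =
      Polynomial.C (α.prod fun i n => (MvPolynomial.X i : MvPolynomial σ k) ^ n) *
        Polynomial.X ^ (α.sum fun _ n => n) := by
    rw [map_finsuppProd, Finsupp.sum, ← Finset.prod_pow_eq_pow_sum, Finsupp.prod, Finsupp.prod,
      ← Finset.prod_mul_distrib]
    refine Finset.prod_congr rfl fun i _ => ?_
    rw [map_pow, reesΦ_X_some, mul_pow, map_pow]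
  rw [h1, MvPolynomial.monomial_eq, map_mul]
  have h2 : (Polynomial.X : Polynomial (MvPolynomial σ k)) ^ e =
      Polynomial.X ^ (α.sum fun _ n => n) * Polynomial.X ^ (e - α.sum fun _ n => n) := by
    rw [← pow_add, Nat.add_sub_cancel' h]
  rw [h2]
  ring

theorem exists_reesΦ_eq (p : MvPolynomial σ k) (e : ℕ) (h : p.totalDegree ≤ e) :
    ∃ u : ReesQ k σ, reesΦ k σ u = Polynomial.C p * Polynomial.X ^ e := by
  classical
  have hα : ∀ α ∈ p.support, ∃ u : ReesQ k σ, reesΦ k σ u =
      Polynomial.C (MvPolynomial.monomial α (p.coeff α)) * Polynomial.X ^ e := fun α hα =>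
    exists_reesΦ_monomial α _ e ((MvPolynomial.le_totalDegree hα).trans h)
  choose! U hU using hα
  refine ⟨∑ α ∈ p.support, U α, ?_⟩
  rw [map_sum]
  conv_rhs => rw [← MvPolynomial.support_sum_monomial_coeff p, map_sum, Finset.sum_mul]
  exact Finset.sum_congr rfl fun α hα => hU α hα

variable [IsNoetherianRing k] [Finite σ] {ι : Type w} [Finite ι]

/-- **Rees module argument.** -/
theorem rees_fg (G : ℕ → Set (ι → MvPolynomial σ k))
    (hG : ∀ e, ∀ g ∈ G e, ∀ i, (g i).totalDegree ≤ e) :
    ∃ (n : ℕ) (E : Fin n → ℕ) (γ : Fin n → ι → MvPolynomial σ k) (d : ℕ),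
      (∀ j, γ j ∈ G (E j) ∧ E j ≤ d) ∧
      ∀ e, d ≤ e → ∀ g ∈ G e, ∃ c : Fin n → MvPolynomial σ k,
        (∀ j, (c j).totalDegree ≤ e - E j) ∧ g = ∑ j, c j • γ j := by
  classical
  cases nonempty_fintype ι
  let gens : Set (ι → ReesQ k σ) :=
    {u | ∃ e, ∃ g ∈ G e, ∀ i, reesΦ k σ (u i) = Polynomial.C (g i) * Polynomial.X ^ e}
  have hfg : (Submodule.span (ReesQ k σ) gens).FG := IsNoetherian.noetherian _
  obtain ⟨t0, ht0sub, ht0⟩ := (Submodule.fg_span_iff_fg_span_finset_subset gens).1 hfg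
  have hch : ∀ u : ↥t0, ∃ e, ∃ g ∈ G e,
      ∀ i, reesΦ k σ (u.1 i) = Polynomial.C (g i) * Polynomial.X ^ e := fun u => ht0sub u.2
  choose E0 γ0 hγ0 hΦ0 using hch
  let eqv := t0.equivFin
  refine ⟨t0.card, fun j => E0 (eqv.symm j), fun j => γ0 (eqv.symm j),
    Finset.univ.sup (fun j => E0 (eqv.symm j)), fun j => ⟨hγ0 _, ?_⟩, ?_⟩
  · exact Finset.le_sup (f := fun j => E0 (eqv.symm j)) (Finset.mem_univ j)
  intro e hde g hg
  choose u hu using fun i => exists_reesΦ_eq (g i) e (hG e g hg i)
  have hmem : u ∈ Submodule.span (ReesQ k σ) gens := Submodule.subset_span ⟨e, g, hg, hu⟩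
  rw [ht0, Submodule.mem_span_finset] at hmem
  obtain ⟨f, -, hf⟩ := hmem
  refine ⟨fun j => (reesΦ k σ (f (eqv.symm j).1)).coeff (e - E0 (eqv.symm j)),
    fun j => totalDegree_coeff_reesΦ _ _, ?_⟩
  funext i
  have h1 : reesΦ k σ (u i) = ∑ w ∈ t0, reesΦ k σ (f w) * reesΦ k σ (w i) := by
    rw [← hf, Finset.sum_apply, map_sum]
    refine Finset.sum_congr rfl fun w _ => ?_
    rw [Pi.smul_apply, smul_eq_mul, map_mul]
  have h2 := congrArg (fun q => Polynomial.coeff q e) h1
  simp only [hu i, Polynomial.coeff_C_mul_X_pow, if_true, Polynomial.finsetSum_coeff] at h2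
  rw [h2, Finset.sum_apply, ← Finset.sum_coe_sort t0, ← Equiv.sum_comp eqv.symm]
  refine Finset.sum_congr rfl fun j _ => ?_
  have hle : E0 (eqv.symm j) ≤ e :=
    (Finset.le_sup (f := fun j => E0 (eqv.symm j)) (Finset.mem_univ j)).trans hde
  rw [hΦ0 (eqv.symm j) i, ← mul_assoc, Polynomial.coeff_mul_X_pow', if_pos hle,
    Polynomial.coeff_mul_C, Pi.smul_apply, smul_eq_mul]

end Groth.Agent.Lib.Helper36.Nagata
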