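import Mathlib

/-!
# Finitely generated torsion-free modules over a valuation ring are free (helper36)
-/

set_option autoImplicit false

namespace Groth.Agent.Lib.Helper36.Nagata

open Function

universe u v

section

variable {V : Type u} [CommRing V] [IsDomain V] [ValuationRing V]

/-- in a valuation ring, a nonempty finite family has a member dividing all the others -/
theorem exists_dvd_all {ι : Type*} (s : Finset ι) (hs : s.Nonempty) (g : ι → V) :
    ∃ j ∈ s, ∀ i ∈ s, g j ∣ g i := by
  classical
  induction hs using Finset.Nonempty.cons_induction with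
  | singleton a => exact ⟨a, Finset.mem_singleton_self a, fun i hi => by
      rw [Finset.mem_singleton] at hi; rw [hi]⟩
  | cons a s ha hs ih =>
    obtain ⟨j, hj, hjs⟩ := ih
    rcases ValuationRing.dvd_total (g a) (g j) with h | h
    · refine ⟨a, Finset.mem_cons_self a s, fun i hi => ?_⟩
      rw [Finset.mem_cons] at hi
      rcases hi with rfl | hi
      · exact dvd_rfl
      · exact h.trans (hjs i hi)
    · refine ⟨j, Finset.mem_cons.2 (Or.inr hj), fun i hi => ?_⟩
      rw [Finset.mem_cons] at hi
      rcases hi with rfl | hi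
      · exact h
      · exact hjs i hi

variable (V) in
/-- a finitely generated torsion-free module over a valuation ring is free -/
theorem free_of_finite_torsionFree (M : Type v) [AddCommGroup M] [Module V M] [Module.Finite V M]
    [Module.IsTorsionFree V M] : Module.Free V M := by
  classical
  have hex : ∃ n : ℕ, ∃ v : Fin n → M, Submodule.span V (Set.range v) = ⊤ := by
    obtain ⟨n, v, hv⟩ := Module.Finite.exists_fin (R := V) (M := M)
    exact ⟨n, v, hv⟩
  obtain ⟨n, ⟨v, hv⟩, hmin⟩ : ∃ n, (∃ v : Fin n → M, Submodule.span V (Set.range v) = ⊤) ∧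
      ∀ m < n, ¬ ∃ v : Fin m → M, Submodule.span V (Set.range v) = ⊤ :=
    ⟨Nat.find hex, Nat.find_spec hex, fun m hm => Nat.find_min hex hm⟩
  suffices hli : LinearIndependent V v from
    Module.Free.of_basis (Module.Basis.mk hli (by rw [hv]))
  by_contra hnli
  rw [Fintype.not_linearIndependent_iff] at hnli
  obtain ⟨g, hg, i₀, hi₀⟩ := hnli
  obtain ⟨m, rfl⟩ : ∃ m, n = m + 1 := by
    rcases Nat.eq_zero_or_pos n with h | h
    · exact (Fin.elim0 (h ▸ i₀))
    · exact ⟨n - 1, by omega⟩
  obtain ⟨j, -, hj⟩ := exists_dvd_all (Finset.univ : Finset (Fin (m + 1))) ⟨i₀, Finset.mem_univ _⟩ g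
  have hgj : g j ≠ 0 := by
    intro h0
    apply hi₀
    have := hj i₀ (Finset.mem_univ _)
    rw [h0] at this
    exact zero_dvd_iff.1 this
  choose b hb using fun i => hj i (Finset.mem_univ i)
  have hbj : b j = 1 := by
    have := hb j
    have h2 : g j * 1 = g j * b j := by rw [mul_one]; exact this
    exact (mul_left_cancel₀ hgj h2).symm
  have hsum : ∑ i, b i • v i = 0 := by
    have h1 : g j • ∑ i, b i • v i = 0 := by
      rw [Finset.smul_sum, ← hg]
      refine Finset.sum_congr rfl fun i _ => ?_
      rw [smul_smul, ← hb i]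
    rcases smul_eq_zero.1 h1 with h | h
    · exact absurd h hgj
    · exact h
  -- `v j` lies in the span of the others
  have hvj : v j ∈ Submodule.span V (Set.range (v ∘ j.succAbove)) := by
    have h1 : v j = -∑ i ∈ Finset.univ.erase j, b i • v i := by
      rw [← Finset.add_sum_erase _ _ (Finset.mem_univ j), hbj, one_smul] at hsum
      exact eq_neg_of_add_eq_zero_left hsum
    rw [h1]
    refine Submodule.neg_mem _ (Submodule.sum_mem _ fun i hi => Submodule.smul_mem _ _ ?_)
    have hij : i ≠ j := (Finset.mem_erase.1 hi).1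
    obtain ⟨i', rfl⟩ := Fin.exists_succAbove_eq hij
    exact Submodule.subset_span ⟨i', rfl⟩
  refine hmin m (Nat.lt_succ_self m) ⟨v ∘ j.succAbove, ?_⟩
  rw [eq_top_iff, ← hv, Submodule.span_le]
  rintro _ ⟨i, rfl⟩
  by_cases hij : i = j
  · rw [hij]; exact hvj
  · obtain ⟨i', rfl⟩ := Fin.exists_succAbove_eq hij
    exact Submodule.subset_span ⟨i', rfl⟩

end

end Groth.Agent.Lib.Helper36.Nagata
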