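import Mathlib
import Groth.Agent.Lib.Helper36.Nagata.ValFree
import Groth.Agent.Lib.Helper36.Nagata.Rees

/-!
# Nagata's theorem: saturated submodules of `V[x]^r` are finitely generated (helper36)
-/

set_option autoImplicit false
set_option maxHeartbeats 400000
set_option linter.unusedSectionVars false

namespace Groth.Agent.Lib.Helper36.Nagata

open Function

universe u v w

section rebuild

variable {R : Type*} [CommSemiring R] {R' : Type*} [CommSemiring R'] {σ : Type*}

/-- rebuild a polynomial with the same support and new coefficients -/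
noncomputable def rebuild (p : MvPolynomial σ R) (q : (σ →₀ ℕ) → R') : MvPolynomial σ R' :=
  ∑ α ∈ p.support, MvPolynomial.monomial α (q α)

theorem totalDegree_rebuild_le (p : MvPolynomial σ R) (q : (σ →₀ ℕ) → R') :
    (rebuild p q).totalDegree ≤ p.totalDegree := by
  refine MvPolynomial.totalDegree_finsetSum_le fun α hα => ?_
  exact (MvPolynomial.totalDegree_monomial_le _ _).trans (MvPolynomial.le_totalDegree hα)

end rebuild

variable {V : Type u} [CommRing V] [IsDomain V] [ValuationRing V]
variable {σ : Type v}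

/-- reduction of polynomials modulo the maximal ideal -/
noncomputable abbrev red : MvPolynomial σ V →+* MvPolynomial σ (IsLocalRing.ResidueField V) :=
  MvPolynomial.map (IsLocalRing.residue V)

theorem exists_lift_red (c : MvPolynomial σ (IsLocalRing.ResidueField V)) :
    ∃ C : MvPolynomial σ V, red C = c ∧ C.totalDegree ≤ c.totalDegree := by
  refine ⟨rebuild c (fun α => Function.surjInv IsLocalRing.residue_surjective (c.coeff α)),
    ?_, totalDegree_rebuild_le _ _⟩
  rw [rebuild, map_sum]
  conv_rhs => rw [← MvPolynomial.support_sum_monomial_coeff c]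
  refine Finset.sum_congr rfl fun α _ => ?_
  rw [red, MvPolynomial.map_monomial,
    Function.surjInv_eq IsLocalRing.residue_surjective (c.coeff α)]

variable {ι : Type w} [Finite ι]

theorem exists_smul_of_red_eq_zero (h : ι → MvPolynomial σ V) (hh : ∀ i, red (h i) = 0) :
    ∃ π ∈ IsLocalRing.maximalIdeal V, ∃ h' : ι → MvPolynomial σ V, h = π • h' ∧
      ∀ i, (h' i).totalDegree ≤ (h i).totalDegree := by
  classical
  cases nonempty_fintype ι
  have hcoeff : ∀ i α, (h i).coeff α ∈ IsLocalRing.maximalIdeal V := by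
    intro i α
    have := congrArg (MvPolynomial.coeff α) (hh i)
    rw [red, MvPolynomial.coeff_map, MvPolynomial.coeff_zero] at this
    exact (IsLocalRing.residue_eq_zero_iff _).1 this
  let T : Finset (Σ _ : ι, σ →₀ ℕ) := Finset.univ.sigma (fun i => (h i).support)
  let a : (Σ _ : ι, σ →₀ ℕ) → V := fun x => (h x.1).coeff x.2
  obtain ⟨π, hπ, hdvd⟩ : ∃ π ∈ IsLocalRing.maximalIdeal V, ∀ x ∈ T, π ∣ a x := by
    rcases T.eq_empty_or_nonempty with hT | hT
    · exact ⟨0, Submodule.zero_mem _, fun x hx => by rw [hT] at hx; simp at hx⟩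
    · obtain ⟨x₀, -, hx₀⟩ := exists_dvd_all T hT a
      exact ⟨a x₀, hcoeff _ _, hx₀⟩
  have hq : ∀ i α, ∃ q, α ∈ (h i).support → (h i).coeff α = π * q := by
    intro i α
    by_cases hα : α ∈ (h i).support
    · obtain ⟨q, hq⟩ := hdvd ⟨i, α⟩ (Finset.mem_sigma.2 ⟨Finset.mem_univ _, hα⟩)
      exact ⟨q, fun _ => hq⟩
    · exact ⟨0, fun h' => absurd h' hα⟩
  choose q hq using hq
  refine ⟨π, hπ, fun i => rebuild (h i) (q i), ?_, fun i => totalDegree_rebuild_le _ _⟩
  funext i
  rw [Pi.smul_apply, rebuild, Finset.smul_sum]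
  conv_lhs => rw [← MvPolynomial.support_sum_monomial_coeff (h i)]
  refine Finset.sum_congr rfl fun α hα => ?_
  rw [MvPolynomial.smul_monomial, smul_eq_mul, hq i α hα]

variable [Finite σ]

/-- the `V`-submodule of vectors of polynomials of total degree at most `e` -/
noncomputable def degB (e : ℕ) : Submodule V (ι → MvPolynomial σ V) :=
  Submodule.pi Set.univ (fun _ => MvPolynomial.restrictTotalDegree σ V e)

theorem mem_degB {e : ℕ} {f : ι → MvPolynomial σ V} :
    f ∈ degB (V := V) (σ := σ) (ι := ι) e ↔ ∀ i, (f i).totalDegree ≤ e := by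
  simp [degB, Submodule.mem_pi, MvPolynomial.mem_restrictTotalDegree]

theorem degB_fg (e : ℕ) : (degB (V := V) (σ := σ) (ι := ι) e).FG :=
  Submodule.fg_pi fun _ => Module.Finite.iff_fg.1 inferInstance

/-- **Nagata.** A saturated submodule of `V[x]^ι` over a valuation ring `V` is finitely
generated. -/
theorem fg_of_saturated (N : Submodule (MvPolynomial σ V) (ι → MvPolynomial σ V))
    (hsat : ∀ (v : V) (f : ι → MvPolynomial σ V), v ≠ 0 → v • f ∈ N → f ∈ N) : N.FG := by
  classical
  cases nonempty_fintype ι
  -- the filtration pieces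
  let Ne : ℕ → Submodule V (ι → MvPolynomial σ V) := fun e => N.restrictScalars V ⊓ degB e
  have hmemNe : ∀ e f, f ∈ Ne e ↔ f ∈ N ∧ ∀ i, (f i).totalDegree ≤ e := by
    intro e f
    simp only [Ne, Submodule.mem_inf, Submodule.restrictScalars_mem, mem_degB]
  -- each piece is finitely generated over `V`
  have hNefg : ∀ e, (Ne e).FG := by
    intro e
    have hNZ : Module.IsTorsionFree V ((ι → MvPolynomial σ V) ⧸ N) := by
      refine Module.IsTorsionFree.of_smul_eq_zero fun v x hvx => ?_
      obtain ⟨f, rfl⟩ := Submodule.Quotient.mk_surjective N x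
      by_cases hv : v = 0
      · exact Or.inl hv
      · right
        rw [← Submodule.Quotient.mk_smul, Submodule.Quotient.mk_eq_zero] at hvx
        rw [Submodule.Quotient.mk_eq_zero]
        exact hsat v f hv hvx
    let qe : ↥(degB (V := V) (σ := σ) (ι := ι) e) →ₗ[V] ((ι → MvPolynomial σ V) ⧸ N) :=
      (N.mkQ.restrictScalars V).comp (degB e).subtype
    have hfin : Module.Finite V ↥(degB (V := V) (σ := σ) (ι := ι) e) :=
      Module.Finite.iff_fg.2 (degB_fg e)
    have hfin2 : Module.Finite V ↥(LinearMap.range qe) := Module.Finite.range qe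
    have hfree : Module.Free V ↥(LinearMap.range qe) := free_of_finite_torsionFree V _
    have hfp : Module.FinitePresentation V ↥(LinearMap.range qe) :=
      Module.finitePresentation_of_projective V _
    have hker : (LinearMap.ker qe.rangeRestrict).FG :=
      Module.FinitePresentation.fg_ker qe.rangeRestrict qe.surjective_rangeRestrict
    have heq : Ne e = (LinearMap.ker qe.rangeRestrict).map (degB e).subtype := by
      ext f
      constructor
      · intro hf
        have hf' := hf
        rw [hmemNe] at hf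
        refine ⟨⟨f, mem_degB.2 hf.2⟩, ?_, rfl⟩
        change qe.rangeRestrict _ = 0
        apply Subtype.ext
        change N.mkQ f = 0
        rw [Submodule.mkQ_apply, Submodule.Quotient.mk_eq_zero]
        exact hf.1
      · rintro ⟨⟨g, hg⟩, hgk, rfl⟩
        change qe.rangeRestrict _ = 0 at hgk
        have h2 : N.mkQ g = 0 := congrArg Subtype.val hgk
        rw [Submodule.mkQ_apply, Submodule.Quotient.mk_eq_zero] at h2
        exact (hmemNe e g).2 ⟨h2, mem_degB.1 hg⟩
    rw [heq]
    exact hker.map _
  -- the Rees argument over the residue field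
  let redF : (ι → MvPolynomial σ V) → (ι → MvPolynomial σ (IsLocalRing.ResidueField V)) :=
    fun f i => red (f i)
  let G : ℕ → Set (ι → MvPolynomial σ (IsLocalRing.ResidueField V)) :=
    fun e => redF '' (Ne e : Set (ι → MvPolynomial σ V))
  have hG : ∀ e, ∀ g ∈ G e, ∀ i, (g i).totalDegree ≤ e := by
    rintro e _ ⟨f, hf, rfl⟩ i
    have h1 : (MvPolynomial.map (IsLocalRing.residue V) (f i)).totalDegree ≤
        (f i).totalDegree :=
      Finset.sup_mono (MvPolynomial.support_map_subset (IsLocalRing.residue V) (f i))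
    exact h1.trans (((hmemNe e f).1 hf).2 i)
  obtain ⟨n, E, γ, d, hγ, hgen⟩ := rees_fg G hG
  have hγ1 : ∀ j, ∃ f, f ∈ Ne (E j) ∧ redF f = γ j := fun j => (hγ j).1
  choose φ hφN hφ using hγ1
  let N' : Submodule (MvPolynomial σ V) (ι → MvPolynomial σ V) :=
    Submodule.span _ (Set.range φ)
  have key : ∀ e, d ≤ e → Ne e ≤ N'.restrictScalars V := by
    intro e hde
    refine Submodule.le_of_le_smul_of_le_jacobson_bot (I := IsLocalRing.maximalIdeal V)
      (hNefg e) (IsLocalRing.maximalIdeal_le_jacobson ⊥) ?_
    intro f hf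
    obtain ⟨c, hc, hgc⟩ := hgen e hde (redF f) ⟨f, hf, rfl⟩
    choose C hC hCdeg using fun j => exists_lift_red (c j)
    have hsumN' : ∑ j, C j • φ j ∈ N' :=
      Submodule.sum_mem _ fun j _ => Submodule.smul_mem _ _ (Submodule.subset_span ⟨j, rfl⟩)
    have hsumNe : ∑ j, C j • φ j ∈ Ne e := by
      refine Submodule.sum_mem _ fun j _ => ?_
      rw [hmemNe]
      have hφj := (hmemNe _ _).1 (hφN j)
      refine ⟨N.smul_mem _ hφj.1, fun i => ?_⟩
      rw [Pi.smul_apply, smul_eq_mul]
      refine (MvPolynomial.totalDegree_mul _ _).trans ?_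
      have h1 := (hCdeg j).trans (hc j)
      have h2 := hφj.2 i
      have h3 := (hγ j).2
      omega
    have hhNe : f - ∑ j, C j • φ j ∈ Ne e := Submodule.sub_mem _ hf hsumNe
    have hred : ∀ i, red ((f - ∑ j, C j • φ j) i) = 0 := by
      intro i
      have h1 : red (f i) = ∑ j, c j * γ j i := by
        have := congrFun hgc i
        rw [Finset.sum_apply] at this
        simpa [redF, Pi.smul_apply, smul_eq_mul] using this
      rw [Pi.sub_apply, Finset.sum_apply, map_sub, map_sum, h1, sub_eq_zero]
      refine Finset.sum_congr rfl fun j _ => ?_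
      rw [Pi.smul_apply, smul_eq_mul, map_mul, hC j]
      have := congrFun (hφ j) i
      simp only [redF] at this
      rw [this]
    obtain ⟨π, hπ, h', hh', hdeg'⟩ := exists_smul_of_red_eq_zero _ hred
    have hfeq : f = ∑ j, C j • φ j + (f - ∑ j, C j • φ j) := by abel
    rw [hfeq]
    refine Submodule.add_mem_sup (by exact hsumN') ?_
    by_cases hπ0 : π = 0
    · rw [hh', hπ0, zero_smul]
      exact Submodule.zero_mem _
    · rw [hh']
      refine Submodule.smul_mem_smul hπ ?_
      rw [hmemNe]
      have hN := ((hmemNe _ _).1 hhNe)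
      refine ⟨hsat π h' hπ0 (hh' ▸ hN.1), fun i => (hdeg' i).trans (hN.2 i)⟩
  -- conclusion
  have hNN' : N ≤ N' := by
    intro f hf
    let e := max d (Finset.univ.sup fun i => (f i).totalDegree)
    have hfe : f ∈ Ne e := by
      rw [hmemNe]
      refine ⟨hf, fun i => le_trans ?_ (le_max_right _ _)⟩
      exact Finset.le_sup (f := fun i => (f i).totalDegree) (Finset.mem_univ i)
    exact key e (le_max_left _ _) hfe
  have hN'N : N' ≤ N := by
    refine Submodule.span_le.2 ?_
    rintro _ ⟨j, rfl⟩
    exact ((hmemNe _ _).1 (hφN j)).1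
  rw [le_antisymm hNN' hN'N]
  exact Submodule.fg_span (Set.finite_range φ)

end Groth.Agent.Lib.Helper36.Nagata
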