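import Mathlib
import Groth.Agent.Lib.Helper36.Nagata.Core

/-!
# Nagata's theorem: finite torsion-free modules over finite type algebras over a valuation
ring are finitely presented (helper36)
-/

set_option autoImplicit false
set_option maxHeartbeats 400000
set_option linter.unusedSectionVars false

namespace Groth.Agent.Lib.Helper36.Nagata

open Function

universe u v w

/-- finite presentation descends along a surjective ring map -/
theorem finitePresentation_of_surjective_algebraMap {R S M : Type*} [CommRing R] [CommRing S]
    [Algebra R S] (hs : Surjective (algebraMap R S)) [AddCommGroup M] [Module R M] [Module S M]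
    [IsScalarTower R S M] [Module.FinitePresentation R M] : Module.FinitePresentation S M := by
  classical
  have hfin : Module.Finite S M := Module.Finite.of_restrictScalars_finite R S M
  obtain ⟨n, πS, hπS⟩ := Module.Finite.exists_fin' S M
  let α : (Fin n → R) →ₗ[R] (Fin n → S) := (Algebra.linearMap R S).compLeft (Fin n)
  have hα : Surjective α := fun x =>
    ⟨fun i => Classical.choose (hs (x i)), funext fun i => Classical.choose_spec (hs (x i))⟩
  let π : (Fin n → R) →ₗ[R] M := (πS.restrictScalars R).comp α
  have hπ : Surjective π := hπS.comp hα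
  have hk : (LinearMap.ker π).FG := Module.FinitePresentation.fg_ker π hπ
  refine Module.finitePresentation_of_surjective πS hπS ?_
  obtain ⟨gens, hgens⟩ := hk
  refine ⟨gens.image α, ?_⟩
  apply le_antisymm
  · rw [Submodule.span_le]
    intro x hx
    rw [Finset.coe_image] at hx
    obtain ⟨g, hg, rfl⟩ := hx
    have hgk : g ∈ LinearMap.ker π := hgens ▸ Submodule.subset_span hg
    exact hgk
  · intro x hx
    obtain ⟨y, rfl⟩ := hα x
    have hy : y ∈ LinearMap.ker π := hx
    rw [← hgens] at hy
    have claim : ∀ z ∈ Submodule.span R (gens : Set (Fin n → R)),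
        α z ∈ Submodule.span S ((gens.image α : Finset (Fin n → S)) : Set (Fin n → S)) := by
      intro z hz
      induction hz using Submodule.span_induction with
      | mem z hz => exact Submodule.subset_span (Finset.mem_image_of_mem α hz)
      | zero => rw [map_zero]; exact Submodule.zero_mem _
      | add a b _ _ ha hb => rw [map_add]; exact Submodule.add_mem _ ha hb
      | smul r a _ ha =>
        rw [map_smul, ← algebraMap_smul S r (α a)]
        exact Submodule.smul_mem _ _ ha
    exact claim y hy

variable {V : Type u} [CommRing V] [IsDomain V] [ValuationRing V]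

/-- Nagata's theorem over a polynomial ring. -/
theorem finitePresentation_mvPolynomial {σ : Type v} [Finite σ] (M : Type w) [AddCommGroup M]
    [Module (MvPolynomial σ V) M] [Module V M] [IsScalarTower V (MvPolynomial σ V) M]
    [Module.Finite (MvPolynomial σ V) M] [Module.IsTorsionFree V M] :
    Module.FinitePresentation (MvPolynomial σ V) M := by
  obtain ⟨n, π, hπ⟩ := Module.Finite.exists_fin' (MvPolynomial σ V) M
  refine Module.finitePresentation_of_surjective π hπ (fg_of_saturated _ ?_)
  intro v f hv hvf
  rw [LinearMap.mem_ker] at hvf ⊢
  rw [LinearMap.map_smul_of_tower] at hvf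
  exact (smul_eq_zero_iff_right hv).1 hvf

/-- **Nagata.** A finite module over a finite type algebra over a valuation ring `V` which is
torsion-free over `V` is finitely presented. -/
theorem finitePresentation_of_finiteType (B : Type v) [CommRing B] [Algebra V B]
    [Algebra.FiniteType V B] (M : Type w) [AddCommGroup M] [Module B M] [Module V M]
    [IsScalarTower V B M] [Module.Finite B M] [Module.IsTorsionFree V M] :
    Module.FinitePresentation B M := by
  obtain ⟨n, φ, hφ⟩ := Algebra.FiniteType.iff_quotient_mvPolynomial''.1
    (inferInstance : Algebra.FiniteType V B)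
  let _ : Algebra (MvPolynomial (Fin n) V) B := φ.toRingHom.toAlgebra
  let _ : Module (MvPolynomial (Fin n) V) M := Module.compHom M φ.toRingHom
  have hsm : ∀ (p : MvPolynomial (Fin n) V) (m : M), p • m = φ p • m := fun _ _ => rfl
  have hsmB : ∀ (p : MvPolynomial (Fin n) V) (b : B), p • b = φ p * b := fun _ _ => rfl
  have : IsScalarTower (MvPolynomial (Fin n) V) B M :=
    ⟨fun p b m => by rw [hsm, hsmB, mul_smul]⟩
  have : IsScalarTower V (MvPolynomial (Fin n) V) M :=
    ⟨fun v p m => by rw [hsm, hsm, map_smul, smul_assoc]⟩
  have : Module.Finite (MvPolynomial (Fin n) V) B :=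
    Module.Finite.of_surjective (Algebra.linearMap (MvPolynomial (Fin n) V) B) hφ
  have : Module.Finite (MvPolynomial (Fin n) V) M := Module.Finite.trans B M
  have := finitePresentation_mvPolynomial (V := V) (σ := Fin n) M
  exact finitePresentation_of_surjective_algebraMap (R := MvPolynomial (Fin n) V) hφ

/-- Nagata's theorem for localizations of finite type algebras. -/
theorem finitePresentation_of_isLocalization (B₀ : Type v) [CommRing B₀] [Algebra V B₀]
    [Algebra.FiniteType V B₀] (T : Submonoid B₀) (B : Type v) [CommRing B] [Algebra B₀ B]
    [IsLocalization T B] (M : Type w) [AddCommGroup M] [Module B M] [Module B₀ M]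
    [IsScalarTower B₀ B M] [Module V M] [IsScalarTower V B₀ M] [Module.Finite B M]
    [Module.IsTorsionFree V M] : Module.FinitePresentation B M := by
  classical
  obtain ⟨n, s, hs⟩ := Module.Finite.exists_fin (R := B) (M := M)
  let M₀ : Submodule B₀ M := Submodule.span B₀ (Set.range s)
  have : Module.Finite B₀ M₀ := Module.Finite.span_of_finite B₀ (Set.finite_range s)
  have : Module.IsTorsionFree V M₀ :=
    Function.Injective.moduleIsTorsionFree (M₀.subtype : M₀ → M) M₀.subtype_injective
      (fun _ _ => rfl)
  have : Module.FinitePresentation B₀ M₀ := finitePresentation_of_finiteType (V := V) B₀ M₀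
  have hloc : IsLocalizedModule T M₀.subtype := by
    refine ⟨fun t => ?_, fun y => ?_, fun {x₁ x₂} h => ⟨1, ?_⟩⟩
    · rw [Module.End.isUnit_iff]
      have hu : IsUnit (algebraMap B₀ B t) := IsLocalization.map_units B t
      obtain ⟨u, hu⟩ := hu
      have hact : ∀ m : M, (algebraMap B₀ (Module.End B₀ M) t) m = (u : B) • m := by
        intro m
        rw [Module.algebraMap_end_apply, hu, algebraMap_smul]
      constructor
      · intro m₁ m₂ h
        rw [hact, hact] at h
        have := congrArg (fun m => (↑u⁻¹ : B) • m) h
        simpa [smul_smul] using this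
      · intro m
        refine ⟨(↑u⁻¹ : B) • m, ?_⟩
        rw [hact, smul_smul, Units.mul_inv, one_smul]
    · have hy : y ∈ Submodule.span B (Set.range s) := by rw [hs]; trivial
      obtain ⟨c, rfl⟩ := (Submodule.mem_span_range_iff_exists_fun B).1 hy
      obtain ⟨t, ht⟩ := IsLocalization.exist_integer_multiples T Finset.univ c
      choose a ha using fun i => ht i (Finset.mem_univ i)
      refine ⟨(⟨∑ i, a i • s i, Submodule.sum_mem _ fun i _ =>
        Submodule.smul_mem _ _ (Submodule.subset_span ⟨i, rfl⟩)⟩, t), ?_⟩
      change (t : B₀) • ∑ i, c i • s i = ∑ i, a i • s i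
      rw [Finset.smul_sum]
      refine Finset.sum_congr rfl fun i _ => ?_
      rw [← algebraMap_smul B (a i) (s i), ha i, smul_assoc]
    · rw [one_smul, one_smul]
      exact M₀.subtype_injective h
  have hbc : IsBaseChange B M₀.subtype := (isLocalizedModule_iff_isBaseChange T B _).1 hloc
  exact FinitePresentation.of_isBaseChange M₀.subtype hbc

end Groth.Agent.Lib.Helper36.Nagata
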