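import Mathlib

/-!
# Duals of finitely presented modules and reflexive modules (helper36)
-/

set_option autoImplicit false
set_option maxHeartbeats 400000

namespace Groth.Agent.Lib.Helper36.Nagata

open Function Module

universe u v

variable {A : Type u} [CommRing A]

/-- Over a ring in which finitely generated submodules of the duals of finite free modules are
finitely presented, the dual of a finitely presented module is finite. -/
theorem finite_dual_of_finitePresentation
    (hcoh : ∀ (s : ℕ) (W : Submodule A (Dual A (Fin s → A))), W.FG → Module.FinitePresentation A W)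
    (M : Type v) [AddCommGroup M] [Module A M] [Module.FinitePresentation A M] :
    Module.Finite A (Dual A M) := by
  obtain ⟨r, s, π, φ, hπ, hex⟩ := Module.FinitePresentation.exists_fin' A M
  have hker : LinearMap.ker φ.dualMap = LinearMap.range π.dualMap := by
    rw [LinearMap.ker_dualMap_eq_dualAnnihilator_range,
      LinearMap.range_dualMap_eq_dualAnnihilator_ker_of_surjective π hπ,
      (LinearMap.exact_iff.1 hex)]
  have hfp : Module.FinitePresentation A (LinearMap.range φ.dualMap) :=
    hcoh s _ (LinearMap.range_eq_map φ.dualMap ▸ (Module.Finite.fg_top).map _)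
  have hfinD : Module.Finite A (Dual A (Fin r → A)) := inferInstance
  have hkfg : (LinearMap.ker φ.dualMap.rangeRestrict).FG := by
    have h1 : Function.Surjective φ.dualMap.rangeRestrict := φ.dualMap.surjective_rangeRestrict
    exact @Module.FinitePresentation.fg_ker A (Dual A (Fin r → A)) (LinearMap.range φ.dualMap)
      _ _ _ _ _ _ _ φ.dualMap.rangeRestrict h1
  rw [LinearMap.ker_rangeRestrict, hker] at hkfg
  have : Module.Finite A (LinearMap.range π.dualMap) := Module.Finite.iff_fg.2 hkfg
  exact Module.Finite.equiv
    (LinearEquiv.ofInjective π.dualMap (LinearMap.dualMap_injective_of_surjective hπ)).symm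

/-- For a reflexive module `M` and a surjection `ψ` from a module `F` onto its dual, the induced
map `M → F*` is injective and its image is saturated with respect to the regular elements. -/
theorem injective_dualMap_comp_eval {M : Type v} [AddCommGroup M] [Module A M]
    [IsReflexive A M] {F : Type*} [AddCommGroup F] [Module A F] (ψ : F →ₗ[A] Dual A M)
    (hψ : Surjective ψ) : Injective (ψ.dualMap ∘ₗ Dual.eval A M) :=
  (LinearMap.dualMap_injective_of_surjective hψ).comp (bijective_dual_eval A M).1

theorem mem_range_of_smul_mem_range {M : Type v} [AddCommGroup M] [Module A M]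
    [IsReflexive A M] {F : Type*} [AddCommGroup F] [Module A F] (ψ : F →ₗ[A] Dual A M)
    (hψ : Surjective ψ) (a : A) (ha : IsSMulRegular A a) (y : Dual A F)
    (hy : a • y ∈ LinearMap.range (ψ.dualMap ∘ₗ Dual.eval A M)) :
    y ∈ LinearMap.range (ψ.dualMap ∘ₗ Dual.eval A M) := by
  obtain ⟨m, hm⟩ := hy
  have hm' : ∀ f : F, ψ f m = a * y f := by
    intro f
    have := congrArg (fun ℓ : Dual A F => ℓ f) hm
    simpa using this
  have hle : LinearMap.ker ψ ≤ LinearMap.ker y := by
    intro f hf
    rw [LinearMap.mem_ker] at hf ⊢
    have h1 := hm' f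
    rw [hf, LinearMap.zero_apply] at h1
    exact ha (by simp only [smul_eq_mul, mul_zero]; exact h1.symm)
  let lam : Dual A (Dual A M) :=
    ((LinearMap.ker ψ).liftQ y hle) ∘ₗ (ψ.quotKerEquivOfSurjective hψ).symm.toLinearMap
  have hlam : ∀ f : F, lam (ψ f) = y f := by
    intro f
    have h1 : (ψ.quotKerEquivOfSurjective hψ).symm (ψ f) = Submodule.Quotient.mk f := by
      rw [LinearEquiv.symm_apply_eq]
      rfl
    change ((LinearMap.ker ψ).liftQ y hle) ((ψ.quotKerEquivOfSurjective hψ).symm (ψ f)) = y f
    rw [h1]
    rfl
  obtain ⟨m', hm'⟩ := (bijective_dual_eval A M).2 lam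
  refine ⟨m', ?_⟩
  ext f
  change Dual.eval A M m' (ψ f) = y f
  rw [hm', hlam]

end Groth.Agent.Lib.Helper36.Nagata
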